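import Groth.Agent.Fano.K239.HonDef
import Groth.Agent.Fano.K188.LinP1

/-!
# Sections of the projective line over a scheme (nodes HA1)

* `mp a q f : Y ⟶ P1 T`: the point over `q : Y ⟶ T` with the coordinate `a` equal to `1` and the other one equal to `f`;
* `exists_eq_mp`, `mp_inj`, `comp_mp`, `mp_pmap`, `mul_eq_one`, `notMem_V_iff`;
* `aff_pmap`, `inf_pmap`, `aff_injective`, `exists_eq_aff`, `aff_ne_iff`, `aff_ne_inf`.
-/

set_option autoImplicit false

universe u

open CategoryTheory CategoryTheory.Limits AlgebraicGeometry TopologicalSpace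

namespace K639.HonA

open K390.PnSec Groth.Agent.Fdesc.LocGen Groth.Agent.Dix.ProjProper
open Groth.Agent.Ega2.H295.PnUniq Groth.Agent.Ega2.H295.PnCoord
open K188.LineDef K188.MapP1 K188.LinFun K188.LinP1 K239.HonDef

attribute [local instance] MvPolynomial.gradedAlgebra

variable {X Y W T T' : Scheme.{u}}

/-! ## Points of the projective line with a coordinate equal to `1` -/

/-- The coordinates: `1` at `a`, `f` at the other place. -/
def crds (a : Fin (1 + 1)) (f : Γ(Y, ⊤)) : Fin (1 + 1) → Γ(Y, ⊤) := fun i => if i = a then 1 else f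

theorem crds_self (a : Fin (1 + 1)) (f : Γ(Y, ⊤)) : crds a f a = 1 := if_pos rfl

theorem crds_ne {a b : Fin (1 + 1)} (h : b ≠ a) (f : Γ(Y, ⊤)) : crds a f b = f := if_neg h

/-- The point over `q` with the coordinate `a` equal to `1` and the other one equal to `f`. -/
noncomputable def mp (a : Fin (1 + 1)) (q : Y ⟶ T) (f : Γ(Y, ⊤)) : Y ⟶ P1 T :=
  (exists_pt q (crds a f) a (crds_self a f)).choose

theorem mp_pr (a : Fin (1 + 1)) (q : Y ⟶ T) (f : Γ(Y, ⊤)) : mp a q f ≫ pr T = q :=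
  (exists_pt q (crds a f) a (crds_self a f)).choose_spec.1

theorem givenBy_mp (a : Fin (1 + 1)) (q : Y ⟶ T) (f : Γ(Y, ⊤)) :
    GivenBy (mp a q f ≫ toZ 1 T) (Coh.structureModule Y) (fun i => ofFun (crds a f i)) :=
  (exists_pt q (crds a f) a (crds_self a f)).choose_spec.2

theorem eq_mp {ψ : Y ⟶ P1 T} {a : Fin (1 + 1)} {q : Y ⟶ T} {f : Γ(Y, ⊤)} (hq : ψ ≫ pr T = q)
    (h : GivenBy (ψ ≫ toZ 1 T) (Coh.structureModule Y) (fun i => ofFun (crds a f i))) : ψ = mp a q f :=
  hom_ext_over (h.unique' (givenBy_mp a q f)) (hq.trans (mp_pr a q f).symm)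

theorem comp_mp (h : W ⟶ Y) (a : Fin (1 + 1)) (q : Y ⟶ T) (f : Γ(Y, ⊤)) :
    h ≫ mp a q f = mp a (h ≫ q) (h.appTop f) := by
  refine eq_mp (by rw [Category.assoc, mp_pr]) ?_
  have h1 := givenBy_ofFun_comp (givenBy_mp a q f) h
  have h2 : (fun i => (ofFun (h.appTop (crds a f i)) : Γ(Coh.structureModule W, ⊤))) =
      fun i => ofFun (crds a (h.appTop f) i) := by
    funext i
    congr 1
    unfold crds
    split_ifs
    · exact map_one _
    · rfl
  rw [Category.assoc]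
  exact h2 ▸ h1

theorem mp_pmap (g : T' ⟶ T) (a : Fin (1 + 1)) (q : Y ⟶ T') (f : Γ(Y, ⊤)) :
    mp a q f ≫ pmap g = mp a (q ≫ g) f := by
  refine eq_mp (by rw [Category.assoc, pmap_pr, ← Category.assoc, mp_pr]) ?_
  rw [Category.assoc, pmap_toZ]
  exact givenBy_mp a q f

theorem exists_ne (a : Fin (1 + 1)) : ∃ b : Fin (1 + 1), b ≠ a := by
  fin_cases a
  · exact ⟨1, by decide⟩
  · exact ⟨0, by decide⟩

theorem mp_inj {a : Fin (1 + 1)} {q : Y ⟶ T} {f f' : Γ(Y, ⊤)} (h : mp a q f = mp a q f') : f = f' := by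
  have h1 := ofFun_unique (i := a) (crds_self a f) (crds_self a f') (givenBy_mp a q f) (by
    rw [h]
    exact givenBy_mp a q f')
  obtain ⟨b, hb⟩ := exists_ne a
  have h2 := congrFun h1 b
  rwa [crds_ne hb, crds_ne hb] at h2

/-- Two different normalisations of the same point. -/
theorem mul_eq_one {a b : Fin (1 + 1)} (hab : a ≠ b) {q : Y ⟶ T} {f g : Γ(Y, ⊤)} (h : mp a q f = mp b q g) :
    f * g = 1 := by
  have h0 := givenBy_mp b q g
  rw [← h] at h0
  obtain ⟨e, he⟩ := (givenBy_mp a q f).exists_iso h0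
  have h1 : ∀ a : Γ(Y, ⊤), e.hom.app ⊤ (ofFun a) = a • e.hom.app ⊤ (one ⊤) := fun a => by
    rw [ofFun_eq_smul]
    exact Scheme.Modules.Hom.app_smul e.hom a (one ⊤)
  have ha := he a
  have hb := he b
  simp only [crds_self, crds_ne hab, crds_ne hab.symm] at ha hb
  have h2 : e.hom.app ⊤ (one ⊤) = ofFun g := ha
  rw [h1, h2, ofFun_eq_smul g, smul_smul, ← ofFun_eq_smul] at hb
  exact ofFun.injective hb

/-! ## The charts -/

variable (T) in
/-- The locus where the coordinate `a` generates. -/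
noncomputable def V (a : Fin (1 + 1)) : (P1 T).Opens := toZ 1 T ⁻¹ᵁ Dp (Fin (1 + 1)) Z.{u} a

theorem mem_V_or (x : P1 T) : x ∈ V T 0 ∨ x ∈ V T 1 := by
  have h := GivenBy.refl (toZ 1 T)
  rcases gl_crd x with h1 | h1
  · left
    rw [V, preimage_Dp h]
    exact h1
  · right
    rw [V, preimage_Dp h]
    exact h1

theorem mem_V_of_notMem {a b : Fin (1 + 1)} (hab : a ≠ b) {x : P1 T} (h : x ∉ V T a) : x ∈ V T b := by
  fin_cases a <;> fin_cases b
  · exact absurd rfl hab
  · exact (mem_V_or x).resolve_left h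
  · exact (mem_V_or x).resolve_right h
  · exact absurd rfl hab

theorem gl_ofFun (f : Γ(Y, ⊤)) : gl (ofFun f : Γ(Coh.structureModule Y, ⊤)) = Y.basicOpen f := by
  ext y
  refine mem_gl_iff (isGen_one ⊤) (a := f) ?_ trivial
  rw [res_refl]
  exact ofFun_eq_smul f

theorem mem_V_iff {ψ : Y ⟶ P1 T} {x : Fin (1 + 1) → Γ(Y, ⊤)}
    (h : GivenBy (ψ ≫ toZ 1 T) (Coh.structureModule Y) (fun i => ofFun (x i))) (a : Fin (1 + 1)) (y : Y) :
    ψ y ∈ V T a ↔ y ∈ Y.basicOpen (x a) := by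
  have h1 := preimage_Dp h a
  rw [gl_ofFun] at h1
  rw [← h1]
  rfl

theorem mp_mem (a : Fin (1 + 1)) (q : Y ⟶ T) (f : Γ(Y, ⊤)) (y : Y) : mp a q f y ∈ V T a := by
  rw [mem_V_iff (givenBy_mp a q f), crds_self, Scheme.basicOpen_of_isUnit _ isUnit_one]
  trivial

theorem mp_mem_iff {a b : Fin (1 + 1)} (h : b ≠ a) (q : Y ⟶ T) (f : Γ(Y, ⊤)) (y : Y) :
    mp a q f y ∈ V T b ↔ y ∈ Y.basicOpen f := by
  rw [mem_V_iff (givenBy_mp a q f), crds_ne h]

theorem eq_of_ne : ∀ a b i : Fin (1 + 1), b ≠ a → i ≠ a → i = b := by decide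

/-- A point in a chart has coordinates. -/
theorem exists_eq_mp {ψ : Y ⟶ P1 T} (a : Fin (1 + 1)) (h : ∀ y, ψ y ∈ V T a) :
    ∃ f : Γ(Y, ⊤), ψ = mp a (ψ ≫ pr T) f := by
  obtain ⟨M, x, h0⟩ : ∃ (M : Y.Modules) (x : Fin (1 + 1) → Γ(M, ⊤)), GivenBy (ψ ≫ toZ 1 T) M x :=
    ⟨_, _, GivenBy.refl _⟩
  have h1 : IsGen (x a) := by
    have h2 : (⊤ : Y.Opens) ≤ gl (x a) := by
      rw [← preimage_Dp h0 a]
      exact fun y _ => h y
    have h3 := (le_gl_iff _ _).1 h2
    rwa [res_refl] at h3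
  obtain ⟨e, he⟩ := exists_iso_of_isGen h1
  obtain ⟨b, hb⟩ := exists_ne a
  refine ⟨ofFun.symm (e.hom.app ⊤ (x b)), eq_mp rfl ?_⟩
  have h4 := h0.of_iso e
  have h5 : (fun i => e.hom.app ⊤ (x i)) = fun i => ofFun (crds a (ofFun.symm (e.hom.app ⊤ (x b))) i) := by
    funext i
    by_cases hi : i = a
    · subst hi
      rw [crds_self]
      exact he
    · have hib : i = b := eq_of_ne a b i hb hi
      subst hib
      rw [crds_ne hi, AddEquiv.apply_symm_apply]
  exact h5 ▸ h4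

variable (T) in
/-- The section with the coordinate `a` equal to `1` and the other one equal to `0`. -/
noncomputable def sec (a : Fin (1 + 1)) : T ⟶ P1 T := mp a (𝟙 T) 0

theorem sec_pr (a : Fin (1 + 1)) : sec T a ≫ pr T = 𝟙 T := mp_pr _ _ _

theorem mp_zero (a : Fin (1 + 1)) (q : Y ⟶ T) : mp a q 0 = q ≫ sec T a := by
  rw [sec, comp_mp, Category.comp_id, map_zero]

theorem sec_notMem {a b : Fin (1 + 1)} (h : b ≠ a) (t : T) : sec T a t ∉ V T b := by
  rw [sec, mp_mem_iff h]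
  rw [Scheme.basicOpen_zero]
  exact fun h => h

theorem isUnit_of_field {Ω : Type u} [Field Ω] (a : Γ(Spec (CommRingCat.of Ω), ⊤)) (h : a ≠ 0) : IsUnit a :=
  (isUnit_iff_ne_zero' a).2 h

theorem notMem_V_iff {a b : Fin (1 + 1)} (hab : a ≠ b) (x : P1 T) : x ∉ V T a ↔ x = sec T b (pr T x) := by
  constructor
  · intro h
    let Ω : Type u := (P1 T).residueField x
    let i : Spec (CommRingCat.of Ω) ⟶ P1 T := (P1 T).fromSpecResidueField x
    have hi : ∀ y, i y = x := fun y => by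
      have h1 : i y ∈ Set.range i := ⟨y, rfl⟩
      have h2 : Set.range i = {x} := Scheme.range_fromSpecResidueField x
      rw [h2] at h1
      exact h1
    obtain ⟨f, hf⟩ := exists_eq_mp (ψ := i) b (fun y => by
      rw [hi]
      exact mem_V_of_notMem hab h)
    have hf0 : f = 0 := by
      by_contra hne
      have h1 := isUnit_of_field f hne
      have h2 := (mp_mem_iff hab (i ≫ pr T) f (IsLocalRing.closedPoint Ω)).2 (by
        rw [Scheme.basicOpen_of_isUnit _ h1]
        trivial)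
      rw [← hf, hi] at h2
      exact h h2
    rw [hf0, mp_zero] at hf
    have h3 := congr($hf (IsLocalRing.closedPoint Ω))
    rw [hi, Scheme.Hom.comp_apply, Scheme.Hom.comp_apply, hi] at h3
    exact h3
  · intro h
    rw [h]
    exact sec_notMem hab _

/-! ## The sections `[1 : b]` and `[0 : 1]` -/

theorem aff_eq (b : Γ(T, ⊤)) : aff b = mp 0 (𝟙 T) b := by
  refine eq_mp (aff_pr b) ?_
  have h1 : (fun a => (ofFun ((![1, b] : Fin 2 → Γ(T, ⊤)) a) : Γ(Coh.structureModule T, ⊤))) =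
      fun i => ofFun (crds 0 b i) := by
    funext i
    fin_cases i <;> rfl
  exact h1 ▸ givenBy_aff b

variable (T) in
theorem inf_eq : inf T = sec T 1 := by
  refine eq_mp inf_pr ?_
  have h1 : (fun a => (ofFun ((![0, 1] : Fin 2 → Γ(T, ⊤)) a) : Γ(Coh.structureModule T, ⊤))) =
      fun i => ofFun (crds 1 0 i) := by
    funext i
    fin_cases i <;> rfl
  exact h1 ▸ givenBy_inf

theorem comp_aff (g : Y ⟶ T) (b : Γ(T, ⊤)) : g ≫ aff b = mp 0 g (g.appTop b) := by
  rw [aff_eq, comp_mp, Category.comp_id]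

/-- Node HA1. -/
theorem aff_pmap (g : T' ⟶ T) (b : Γ(T, ⊤)) : aff (g.appTop b) ≫ pmap g = g ≫ aff b := by
  rw [comp_aff, aff_eq, mp_pmap, Category.id_comp]

theorem inf_pmap (g : T' ⟶ T) : inf T' ≫ pmap g = g ≫ inf T := by
  rw [inf_eq, inf_eq, ← mp_zero, sec, mp_pmap, Category.id_comp]

theorem aff_injective : Function.Injective (aff (T := T)) := fun b b' h => by
  rw [aff_eq, aff_eq] at h
  exact mp_inj h

/-- A section of the projective line disjoint from the section `[0 : 1]` is `[1 : b]`. -/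
theorem exists_eq_aff (s : T ⟶ P1 T) (hs : s ≫ pr T = 𝟙 T) (h : ∀ t, s t ≠ inf T t) : ∃ b : Γ(T, ⊤), s = aff b := by
  obtain ⟨b, hb⟩ := exists_eq_mp (ψ := s) 0 (fun t => by
    by_contra hcon
    have h2 : pr T (s t) = t := by
      rw [← Scheme.Hom.comp_apply, hs]
      rfl
    rw [notMem_V_iff (show (0 : Fin (1 + 1)) ≠ 1 by decide), h2, ← inf_eq] at hcon
    exact h t hcon)
  rw [hs] at hb
  exact ⟨b, hb.trans (aff_eq b).symm⟩

theorem aff_ne_inf (b : Γ(T, ⊤)) (t : T) : aff b t ≠ inf T t := by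
  intro h
  have h1 := mp_mem 0 (𝟙 T) b t
  rw [← aff_eq, h, inf_eq] at h1
  exact sec_notMem (by decide) t h1

/-- A function which vanishes nowhere is a unit. -/
theorem isUnit_of_forall {f : Γ(X, ⊤)} (h : ∀ x, x ∈ X.basicOpen f) : IsUnit f :=
  X.toRingedSpace.isUnit_of_isUnit_germ ⊤ f fun x hx => (Scheme.mem_basicOpen _ _ _ hx).1 (h x)

/-- Two sections `[1 : b]`, `[1 : b']` are disjoint iff `b - b'` is a unit; `[1 : b]` and `[0 : 1]` are always disjoint. -/
theorem aff_ne_iff (b b' : Γ(T, ⊤)) : (∀ t, aff b t ≠ aff b' t) ↔ IsUnit (b - b') := by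
  constructor
  · intro h
    refine isUnit_of_forall fun t => ?_
    by_contra ht
    refine h t ?_
    let Ω : Type u := T.residueField t
    let i : Spec (CommRingCat.of Ω) ⟶ T := T.fromSpecResidueField t
    have hi : ∀ y, i y = t := fun y => by
      have h1 : i y ∈ Set.range i := ⟨y, rfl⟩
      have h2 : Set.range i = {t} := Scheme.range_fromSpecResidueField t
      rw [h2] at h1
      exact h1
    have h0 : i.appTop (b - b') = 0 := by
      by_contra hne
      have h1 := isUnit_of_field _ hne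
      have h2 : IsLocalRing.closedPoint Ω ∈ i ⁻¹ᵁ T.basicOpen (b - b') := by
        rw [Scheme.preimage_basicOpen]
        have h3 : (Spec (CommRingCat.of Ω)).basicOpen (i.appTop (b - b')) = ⊤ := Scheme.basicOpen_of_isUnit _ h1
        exact h3.ge trivial
      have h4 : i (IsLocalRing.closedPoint Ω) ∈ T.basicOpen (b - b') := h2
      rw [hi] at h4
      exact ht h4
    rw [map_sub, sub_eq_zero] at h0
    have h5 : i ≫ aff b = i ≫ aff b' := by rw [comp_aff, comp_aff, h0]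
    have h6 := congr($h5 (IsLocalRing.closedPoint Ω))
    rw [Scheme.Hom.comp_apply, Scheme.Hom.comp_apply, hi] at h6
    exact h6
  · intro h t ht
    obtain ⟨ψ, hψ, hψ'⟩ := exists_end (T := T) (v := ![1, -b']) (c := ![0, 1]) (by
      change IsUnit ((1 : Γ(T, ⊤)) * 1 - (-b') * 0)
      rw [mul_zero, sub_zero, mul_one]
      exact isUnit_one)
    have key : ∀ d : Γ(T, ⊤), (aff d ≫ ψ) t ∈ V T 1 ↔ t ∈ T.basicOpen (d - b') := by
      intro d
      have h1 := givenBy_comp_lsec' (givenBy_aff d) hψ'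
      rw [← Category.assoc] at h1
      rw [mem_V_iff h1 1 t, aff_pr]
      have h2 : (𝟙 T : T ⟶ T).appTop ((![1, -b'] : Fin (1 + 1) → Γ(T, ⊤)) 1) * (![1, d] : Fin 2 → Γ(T, ⊤)) 0 +
          (𝟙 T : T ⟶ T).appTop ((![0, 1] : Fin (1 + 1) → Γ(T, ⊤)) 1) * (![1, d] : Fin 2 → Γ(T, ⊤)) 1 = d - b' := by
        rw [Scheme.Hom.id_appTop]
        change -b' * 1 + 1 * d = d - b'
        ring
      rw [h2]
    have h1 : (aff b ≫ ψ) t ∈ V T 1 := by
      rw [key, Scheme.basicOpen_of_isUnit _ h]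
      trivial
    rw [Scheme.Hom.comp_apply, ht, ← Scheme.Hom.comp_apply, key, sub_self, Scheme.basicOpen_zero] at h1
    exact h1

end K639.HonA
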