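import Groth.Agent.Fano.K639.HonA
import Groth.Agent.Sga67.PushTwistD
import Groth.Agent.CurvesC.ProjSpaceBasic

/-!
# Automorphisms of the projective line fixing three sections (node HA2)

`eq_id_of_std3`: an automorphism of `P1 T` over `T` fixing `[1 : 0]`, `[1 : 1]` and `[0 : 1]` is the identity.

Over an affine base: on the chart `V a` the automorphism is given by a function `f a`, and `f a = u a * y a`,
`y a` the coordinate, `u a` a unit.  On the overlap `u 0 * u 1 = 1`, so `u 0` and `1 / u 1` glue to a function on `P1 T`,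
which comes from the base.
-/

set_option autoImplicit false

universe u

open CategoryTheory CategoryTheory.Limits AlgebraicGeometry TopologicalSpace

namespace K639.HonA

open K390.PnSec Groth.Agent.Fdesc.LocGen Groth.Agent.Dix.ProjProper
open Groth.Agent.Ega2.H295.PnUniq Groth.Agent.Ega2.H295.PnCoord
open K188.LineDef K188.MapP1 K188.LinFun K188.LinP1 K239.HonDef

attribute [local instance] MvPolynomial.gradedAlgebra

variable {X Y W T T' : Scheme.{u}}

/-- Divisibility on an affine scheme in terms of zero loci. -/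
theorem dvd_of_affine [IsAffine X] (y f : Γ(X, ⊤))
    (h : ∀ (Z : Scheme.{u}) (i : Z ⟶ X), i.appTop y = 0 → i.appTop f = 0) : y ∣ f := by
  let φ : Γ(X, ⊤) ⟶ CommRingCat.of (Γ(X, ⊤) ⧸ Ideal.span {y}) := CommRingCat.ofHom (Ideal.Quotient.mk (Ideal.span {y}))
  let i : Spec (CommRingCat.of (Γ(X, ⊤) ⧸ Ideal.span {y})) ⟶ X := Spec.map φ ≫ X.isoSpec.inv
  have h1 : X.isoSpec.inv.appTop = (Scheme.ΓSpecIso Γ(X, ⊤)).inv := by
    have h2 : X.isoSpec.hom.appTop = (Scheme.ΓSpecIso Γ(X, ⊤)).hom := Scheme.toSpecΓ_appTop X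
    have h3 : X.isoSpec.inv.appTop ≫ X.isoSpec.hom.appTop = 𝟙 _ := by
      rw [← Scheme.Hom.comp_appTop, Iso.hom_inv_id, Scheme.Hom.id_appTop]
    rw [h2] at h3
    exact (Iso.comp_hom_eq_id _).1 h3
  have h2 : i.appTop = φ ≫ (Scheme.ΓSpecIso _).inv := by
    rw [Scheme.Hom.comp_appTop, h1]
    exact (Scheme.ΓSpecIso_inv_naturality φ).symm
  have h3 : ∀ a, i.appTop a = 0 ↔ φ a = 0 := by
    intro a
    rw [h2]
    change (Scheme.ΓSpecIso _).inv (φ a) = 0 ↔ _
    constructor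
    · intro h4
      have h5 := congrArg (Scheme.ΓSpecIso (CommRingCat.of (Γ(X, ⊤) ⧸ Ideal.span {y}))).hom h4
      rw [map_zero] at h5
      rw [← h5]
      exact (congr($((Scheme.ΓSpecIso (CommRingCat.of (Γ(X, ⊤) ⧸ Ideal.span {y}))).inv_hom_id) (φ a))).symm
    · intro h4
      rw [h4, map_zero]
  have h4 := (h3 f).1 (h _ i ((h3 y).2 (Ideal.Quotient.eq_zero_iff_mem.2 (Ideal.mem_span_singleton_self y))))
  exact Ideal.mem_span_singleton.1 (Ideal.Quotient.eq_zero_iff_mem.1 h4)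

/-- The covering of the projective line by the two charts. -/
noncomputable def cov (T : Scheme.{u}) : (P1 T).OpenCover :=
  (P1 T).openCoverOfIsOpenCover (V T) (by
    rw [IsOpenCover, eq_top_iff]
    intro x _
    rw [Opens.mem_iSup]
    rcases mem_V_or x with h | h
    · exact ⟨0, h⟩
    · exact ⟨1, h⟩)

/-- Functions on the charts glue. -/
theorem exists_glue (F : ∀ i : Fin (1 + 1), Γ(V T i, ⊤))
    (h : ∀ (Z : Scheme.{u}) (p : Z ⟶ V T 0) (q : Z ⟶ V T 1), p ≫ (V T 0).ι = q ≫ (V T 1).ι →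
      p.appTop (F 0) = q.appTop (F 1)) :
    ∃ c : Γ(P1 T, ⊤), ∀ i, (V T i).ι.appTop c = F i := by
  have h' : ∀ (i j : Fin (1 + 1)) (Z : Scheme.{u}) (p : Z ⟶ V T i) (q : Z ⟶ V T j),
      p ≫ (V T i).ι = q ≫ (V T j).ι → p.appTop (F i) = q.appTop (F j) := by
    have hm : ∀ (i : Fin (1 + 1)) (Z : Scheme.{u}) (p : Z ⟶ V T i) (q : Z ⟶ V T i),
        p ≫ (V T i).ι = q ≫ (V T i).ι → p.appTop (F i) = q.appTop (F i) := fun i Z p q hpq => by
      rw [(cancel_mono (V T i).ι).1 hpq]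
    intro i j
    fin_cases i <;> fin_cases j
    · exact hm 0
    · exact h
    · exact fun Z p q hpq => (h Z q p hpq.symm).symm
    · exact hm 1
  have hcomp : ∀ i j : Fin (1 + 1), pullback.fst (V T i).ι (V T j).ι ≫ mp 0 ((V T i).ι ≫ pr T) (F i) =
      pullback.snd (V T i).ι (V T j).ι ≫ mp 0 ((V T j).ι ≫ pr T) (F j) := by
    intro i j
    rw [comp_mp, comp_mp, h' i j _ _ _ pullback.condition, ← Category.assoc, pullback.condition, Category.assoc]
  let m : P1 T ⟶ P1 T := (cov T).glueMorphisms (fun i => mp 0 ((V T i).ι ≫ pr T) (F i)) fun i j => hcomp i j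
  have hm : ∀ i, (V T i).ι ≫ m = mp 0 ((V T i).ι ≫ pr T) (F i) := fun i =>
    Scheme.Cover.ι_glueMorphisms (cov T) _ _ i
  have hm1 : m ≫ pr T = pr T := (cov T).hom_ext _ _ fun i => by
    change (V T i).ι ≫ m ≫ pr T = (V T i).ι ≫ pr T
    rw [← Category.assoc, hm, mp_pr]
  obtain ⟨c, hc⟩ := exists_eq_mp (ψ := m) 0 (fun x => by
    have key : ∀ i, x ∈ V T i → m x ∈ V T 0 := fun i hi => by
      have h1 : ((V T i).ι ≫ m) ⟨x, hi⟩ ∈ V T 0 := by
        rw [hm]
        exact mp_mem _ _ _ _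
      exact h1
    rcases mem_V_or x with h1 | h1
    · exact key 0 h1
    · exact key 1 h1)
  refine ⟨c, fun i => ?_⟩
  have h1 := hm i
  rw [hc, comp_mp, hm1] at h1
  exact mp_inj h1

section Affine

variable (T) in
theorem exists_coord (a : Fin (1 + 1)) : ∃ y : Γ(V T a, ⊤), (V T a).ι = mp a ((V T a).ι ≫ pr T) y :=
  exists_eq_mp (ψ := (V T a).ι) a fun y => y.2

variable (T) in
/-- The coordinate on the chart. -/
noncomputable def yc (a : Fin (1 + 1)) : Γ(V T a, ⊤) := (exists_coord T a).choose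

theorem ι_eq (a : Fin (1 + 1)) : (V T a).ι = mp a ((V T a).ι ≫ pr T) (yc T a) := (exists_coord T a).choose_spec

/-- On the overlap the coordinates are inverse to each other. -/
theorem yc_mul {a b : Fin (1 + 1)} (hab : a ≠ b) {Z : Scheme.{u}} (p : Z ⟶ V T a) (q : Z ⟶ V T b)
    (h : p ≫ (V T a).ι = q ≫ (V T b).ι) : p.appTop (yc T a) * q.appTop (yc T b) = 1 := by
  refine mul_eq_one hab (q := p ≫ (V T a).ι ≫ pr T) ?_
  rw [← comp_mp, ← ι_eq, ← Category.assoc, h, Category.assoc, ← comp_mp, ← ι_eq]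

variable [IsAffine T]

theorem exists_pr (c : Γ(P1 T, ⊤)) : ∃ d : Γ(T, ⊤), (pr T).appTop d = c :=
  (Groth.Agent.Sga67.PushTwist.toBase_app_bijective 1 T ⊤ (isAffineOpen_top T)).2 c

/-- The coordinates are nonzerodivisors. -/
theorem eq_zero_of_mul_yc {a : Fin (1 + 1)} {h : Γ(V T a, ⊤)} (h0 : yc T a * h = 0) : h = 0 := by
  have key : ∀ (b : Fin (1 + 1)), a ≠ b → ∀ (Z : Scheme.{u}) (p : Z ⟶ V T a) (q : Z ⟶ V T b),
      p ≫ (V T a).ι = q ≫ (V T b).ι → p.appTop h = 0 := by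
    intro b hb Z p q hpq
    have h1 := yc_mul hb p q hpq
    have h2 : p.appTop (yc T a) * p.appTop h = 0 := by rw [← map_mul, h0, map_zero]
    calc p.appTop h = (p.appTop (yc T a) * q.appTop (yc T b)) * p.appTop h := by rw [h1, one_mul]
      _ = q.appTop (yc T b) * (p.appTop (yc T a) * p.appTop h) := by ring
      _ = 0 := by rw [h2, mul_zero]
  obtain ⟨b, hb⟩ := exists_ne a
  let F : ∀ i : Fin (1 + 1), Γ(V T i, ⊤) := Function.update (fun _ => 0) a h
  have hFa : F a = h := Function.update_self _ _ _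
  have hFb : F b = 0 := Function.update_of_ne hb _ _
  obtain ⟨c, hc⟩ := exists_glue F (by
    intro Z p q hpq
    fin_cases a
    · have hb1 : b = 1 := eq_of_ne 0 b 1 hb (by decide) ▸ rfl
      subst hb1
      rw [hFb, map_zero]
      exact (congrArg p.appTop hFa).trans (key 1 (by decide) Z p q hpq)
    · have hb1 : b = 0 := eq_of_ne 1 b 0 hb (by decide) ▸ rfl
      subst hb1
      rw [hFb, map_zero]
      exact ((congrArg q.appTop hFa).trans (key 0 (by decide) Z q p hpq.symm)).symm)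
  obtain ⟨d, rfl⟩ := exists_pr c
  -- evaluate at the section `sec b`
  have h1 := hc b
  rw [hFb] at h1
  let β : T ⟶ V T b := IsOpenImmersion.lift (V T b).ι (sec T b) (by
    rintro _ ⟨t, rfl⟩
    rw [Scheme.Opens.range_ι]
    exact mp_mem b (𝟙 T) 0 t)
  have hβ : β ≫ (V T b).ι = sec T b := IsOpenImmersion.lift_fac _ _ _
  have h2 : d = 0 := by
    have h3 := congrArg β.appTop h1
    rw [map_zero] at h3
    have h4 : (pr T).appTop ≫ (V T b).ι.appTop ≫ β.appTop = 𝟙 _ := by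
      rw [← Scheme.Hom.comp_appTop, ← Scheme.Hom.comp_appTop, hβ, sec_pr, Scheme.Hom.id_appTop]
    exact (congr($h4 d)).symm.trans h3
  rw [← hFa, ← hc a, h2, map_zero, map_zero]

theorem isAffine_V (a : Fin (1 + 1)) : IsAffine (V T a) := by
  have h1 : IsAffineHom (toZ 1 T) :=
    MorphismProperty.of_isPullback (isPullback_toZ 1 T).flip (inferInstanceAs (IsAffineHom (specULiftZIsTerminal.from T)))
  exact (Groth.Agent.CurvesC.ProjSpaceBasic.isAffineOpen_Dp 1 Z.{u} a).preimage (toZ 1 T)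

variable {φ : P1 T ⟶ P1 T} (hφ : φ ≫ pr T = pr T) [IsIso φ] (h : ∀ a, sec T a ≫ φ = sec T a)

include hφ h

omit hφ [IsAffine T] [IsIso φ] in
theorem sec_apply (a : Fin (1 + 1)) (t : T) : φ (sec T a t) = sec T a t := by
  have h1 := congr($(h a) t)
  exact h1

omit [IsAffine T] in
/-- The charts are preserved. -/
theorem mem_V_phi_iff (a : Fin (1 + 1)) (x : P1 T) : φ x ∈ V T a ↔ x ∈ V T a := by
  obtain ⟨b, hb⟩ := exists_ne a
  have hp : ∀ x, pr T (φ x) = pr T x := fun x => congr($hφ x)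
  have h1 := not_congr (notMem_V_iff (T := T) hb.symm x)
  have h2 := not_congr (notMem_V_iff (T := T) hb.symm (φ x))
  rw [not_not] at h1 h2
  rw [h1, h2, hp]
  refine not_congr ⟨fun h3 => ?_, fun h3 => ?_⟩
  · rw [← sec_apply h b (pr T x)] at h3
    exact φ.homeomorph.injective h3
  · have h4 := congrArg φ h3
    rw [sec_apply h b] at h4
    exact h4

omit [IsAffine T] in
theorem exists_fun (a : Fin (1 + 1)) : ∃ f : Γ(V T a, ⊤), (V T a).ι ≫ φ = mp a ((V T a).ι ≫ pr T) f := by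
  obtain ⟨f, hf⟩ := exists_eq_mp (ψ := (V T a).ι ≫ φ) a (fun y => (mem_V_phi_iff hφ h a _).2 y.2)
  rw [Category.assoc, hφ] at hf
  exact ⟨f, hf⟩

omit hφ [IsIso φ] in
theorem yc_dvd {a : Fin (1 + 1)} {f : Γ(V T a, ⊤)} (hf : (V T a).ι ≫ φ = mp a ((V T a).ι ≫ pr T) f) :
    yc T a ∣ f := by
  have := isAffine_V (T := T) a
  refine dvd_of_affine _ _ fun Z i hi => ?_
  have h1 : i ≫ (V T a).ι = (i ≫ (V T a).ι ≫ pr T) ≫ sec T a := by
    conv_lhs => rw [ι_eq]
    rw [comp_mp, hi, mp_zero]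
  have h2 : mp a (i ≫ (V T a).ι ≫ pr T) (i.appTop f) = mp a (i ≫ (V T a).ι ≫ pr T) 0 := by
    rw [← comp_mp, ← hf, ← Category.assoc, h1, Category.assoc, h a, mp_zero]
  exact mp_inj h2

omit hφ in
theorem dvd_yc {a : Fin (1 + 1)} {f : Γ(V T a, ⊤)} (hf : (V T a).ι ≫ φ = mp a ((V T a).ι ≫ pr T) f) :
    f ∣ yc T a := by
  have := isAffine_V (T := T) a
  refine dvd_of_affine _ _ fun Z i hi => ?_
  have h1 : (i ≫ (V T a).ι) ≫ φ = ((i ≫ (V T a).ι ≫ pr T) ≫ sec T a) ≫ φ := by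
    rw [Category.assoc, hf, comp_mp, hi, mp_zero, Category.assoc (i ≫ (V T a).ι ≫ pr T), h a]
  have h2 := (cancel_mono φ).1 h1
  have h3 : mp a (i ≫ (V T a).ι ≫ pr T) (i.appTop (yc T a)) = mp a (i ≫ (V T a).ι ≫ pr T) 0 := by
    rw [← comp_mp, ← ι_eq, h2, mp_zero]
  exact mp_inj h3

/-- Node HA2 over an affine base. -/
theorem eq_id_affine (h1 : aff 1 ≫ φ = aff 1) : φ = 𝟙 (P1 T) := by
  choose f hf using exists_fun hφ h
  choose u hu using fun a => yc_dvd h (hf a)
  choose v hv using fun a => dvd_yc h (hf a)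
  have huv : ∀ a, u a * v a = 1 := by
    intro a
    have h2 : yc T a * (u a * v a - 1) = 0 := by
      have h3 := hv a
      rw [hu a] at h3
      linear_combination -h3
    exact sub_eq_zero.1 (eq_zero_of_mul_yc h2)
  -- on the overlap
  have hov : ∀ {Z : Scheme.{u}} (p : Z ⟶ V T 0) (q : Z ⟶ V T 1), p ≫ (V T 0).ι = q ≫ (V T 1).ι →
      p.appTop (u 0) * q.appTop (u 1) = 1 := by
    intro Z p q hpq
    have e1 := yc_mul (T := T) (a := 0) (b := 1) (by decide) p q hpq
    have e2 : p.appTop (f 0) * q.appTop (f 1) = 1 := by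
      refine mul_eq_one (T := T) (a := 0) (b := 1) (by decide) (q := p ≫ (V T 0).ι ≫ pr T) ?_
      rw [← comp_mp, ← hf 0, ← Category.assoc, hpq, Category.assoc, hf 1, comp_mp, ← Category.assoc, ← hpq,
        Category.assoc]
    rw [hu 0, hu 1, map_mul, map_mul] at e2
    linear_combination e2 - (p.appTop (u 0) * q.appTop (u 1)) * e1
  let F : ∀ i : Fin (1 + 1), Γ(V T i, ⊤) := Function.update v 0 (u 0)
  have hF0 : F 0 = u 0 := Function.update_self _ _ _
  have hF1 : F 1 = v 1 := Function.update_of_ne (by decide) _ _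
  obtain ⟨c, hc⟩ := exists_glue F (by
    intro Z p q hpq
    rw [hF0, hF1]
    have e1 := hov p q hpq
    have e2 : q.appTop (u 1) * q.appTop (v 1) = 1 := by rw [← map_mul, huv, map_one]
    linear_combination q.appTop (v 1) * e1 - p.appTop (u 0) * e2)
  obtain ⟨d, rfl⟩ := exists_pr c
  -- evaluate at `[1 : 1]`
  let β : T ⟶ V T 0 := IsOpenImmersion.lift (V T 0).ι (aff 1) (by
    rintro _ ⟨t, rfl⟩
    rw [Scheme.Opens.range_ι, aff_eq]
    exact mp_mem 0 (𝟙 T) 1 t)
  have hβ : β ≫ (V T 0).ι = aff 1 := IsOpenImmersion.lift_fac _ _ _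
  have hβ' : β ≫ (V T 0).ι ≫ pr T = 𝟙 T := by rw [← Category.assoc, hβ, aff_pr]
  have b1 : β.appTop (yc T 0) = 1 := by
    have e : mp 0 (𝟙 T) (β.appTop (yc T 0)) = mp 0 (𝟙 T) 1 := by
      rw [← hβ', ← comp_mp, ← ι_eq, hβ, hβ', aff_eq]
    exact mp_inj e
  have b2 : β.appTop (f 0) = 1 := by
    have e : mp 0 (𝟙 T) (β.appTop (f 0)) = mp 0 (𝟙 T) 1 := by
      rw [← hβ', ← comp_mp, ← hf 0, ← Category.assoc, hβ, h1, hβ', aff_eq]
    exact mp_inj e
  have b3 : β.appTop (u 0) = 1 := by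
    rw [hu 0, map_mul, b1, one_mul] at b2
    exact b2
  have hd : d = 1 := by
    have e1 := hc 0
    rw [hF0] at e1
    have e2 : (pr T).appTop ≫ (V T 0).ι.appTop ≫ β.appTop = 𝟙 _ := by
      rw [← Scheme.Hom.comp_appTop, ← Scheme.Hom.comp_appTop, Category.assoc, hβ', Scheme.Hom.id_appTop]
    have e3 := (congr($e2 d)).symm.trans (congrArg β.appTop e1)
    exact e3.trans b3
  have hu1 : ∀ a, u a = 1 := by
    intro a
    fin_cases a
    · have e1 := hc 0
      rw [hF0, hd, map_one, map_one] at e1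
      exact e1.symm
    · have e1 := hc 1
      rw [hF1, hd, map_one, map_one] at e1
      have e2 := huv 1
      rw [← e1, mul_one] at e2
      exact e2
  refine (cov T).hom_ext _ _ fun i => ?_
  change (V T i).ι ≫ φ = (V T i).ι ≫ 𝟙 _
  rw [hf i, hu i, hu1 i, mul_one, ← ι_eq, Category.comp_id]

end Affine

/-- Node HA2: an automorphism of the projective line fixing three sections is the identity. -/
theorem eq_id_of_std3 (φ : P1 T ⟶ P1 T) (hφ : φ ≫ pr T = pr T) [IsIso φ] (h : ∀ i, std3 T i ≫ φ = std3 T i) :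
    φ = 𝟙 (P1 T) := by
  have g0 : aff 0 ≫ φ = aff 0 := h 0
  have g1 : aff 1 ≫ φ = aff 1 := h 1
  have g2 : inf T ≫ φ = inf T := h 2
  refine Scheme.Cover.hom_ext (T.affineCover.pullback₁ (pr T)) _ _ fun i => ?_
  let g : T.affineCover.X i ⟶ T := T.affineCover.f i
  change pullback.fst (pr T) g ≫ φ = pullback.fst (pr T) g ≫ 𝟙 _
  have hP := isPullback_pmap g
  suffices key : pmap g ≫ φ = pmap g by
    have e1 : pullback.fst (pr T) g = hP.isoPullback.inv ≫ pmap g := hP.isoPullback_inv_fst.symm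
    rw [e1, Category.assoc, key, Category.comp_id]
  have hφ' : inv φ ≫ pr T = pr T := by rw [IsIso.inv_comp_eq, hφ]
  let ψ : P1 (T.affineCover.X i) ⟶ P1 (T.affineCover.X i) := hP.lift (pmap g ≫ φ) (pr _) (by
    rw [Category.assoc, hφ, pmap_pr])
  let χ : P1 (T.affineCover.X i) ⟶ P1 (T.affineCover.X i) := hP.lift (pmap g ≫ inv φ) (pr _) (by
    rw [Category.assoc, hφ', pmap_pr])
  have p1 : ψ ≫ pmap g = pmap g ≫ φ := hP.lift_fst _ _ _
  have p2 : ψ ≫ pr _ = pr _ := hP.lift_snd _ _ _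
  have p3 : χ ≫ pmap g = pmap g ≫ inv φ := hP.lift_fst _ _ _
  have p4 : χ ≫ pr _ = pr _ := hP.lift_snd _ _ _
  have hψ : IsIso ψ := by
    refine ⟨χ, hP.hom_ext ?_ ?_, hP.hom_ext ?_ ?_⟩
    · rw [Category.assoc, p3, ← Category.assoc, p1, Category.assoc, IsIso.hom_inv_id, Category.comp_id,
        Category.id_comp]
    · rw [Category.assoc, p4, p2, Category.id_comp]
    · rw [Category.assoc, p1, ← Category.assoc, p3, Category.assoc, IsIso.inv_hom_id, Category.comp_id,
        Category.id_comp]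
    · rw [Category.assoc, p2, p4, Category.id_comp]
  have hT : IsAffine (T.affineCover.X i) := inferInstance
  have fix : ∀ (s : T.affineCover.X i ⟶ P1 (T.affineCover.X i)) (t : T ⟶ P1 T), s ≫ pmap g = g ≫ t →
      t ≫ φ = t → s ≫ ψ = s := by
    intro s t hs ht
    refine hP.hom_ext ?_ ?_
    · rw [Category.assoc, p1, ← Category.assoc, hs, Category.assoc, ht]
    · rw [Category.assoc, p2]
  have q0 : ∀ b : Γ(T, ⊤), aff (g.appTop b) ≫ pmap g = g ≫ aff b := aff_pmap g
  have r0 := fix _ _ (q0 0) g0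
  have r1 := fix _ _ (q0 1) g1
  have r2 := fix _ _ (inf_pmap g) g2
  rw [map_zero] at r0
  rw [map_one] at r1
  have hid : ψ = 𝟙 _ := eq_id_affine p2 (fun a => by
    fin_cases a
    · have e : (sec (T.affineCover.X i) 0) = aff 0 := (aff_eq 0).symm
      exact e ▸ r0
    · have e : (sec (T.affineCover.X i) 1) = inf _ := (inf_eq _).symm
      exact e ▸ r2) r1
  rw [← p1, hid, Category.id_comp]

end K639.HonA
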